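import Cfsg.Agent.OM.Sp.C2.Tool
import Cfsg.Agent.BZ.C3.McL
import Cfsg.Agent.BZ.C5.HS

/-!
# OM (S4894), the covers `3.McL`, `3.ON`, `2.HS` (helper43)
-/

set_option autoImplicit false
set_option maxHeartbeats 400000
set_option maxRecDepth 100000

namespace Cfsg.Agent.OM.C2

open Cfsg Subgroup Cfsg.Agent.TAB Cfsg.Agent.TAB.Eng Cfsg.Agent.TAB.Use Cfsg.Agent.BZ.T

theorem mcl_3_2 : ∀ (S : Type) [Group S] [Finite S], Spor.IsoMcL S → Cov 3 2 S := by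
  have := Fact.mk Nat.prime_two
  have := Fact.mk Nat.prime_three
  rintro S _ _ ⟨e⟩
  obtain ⟨f⟩ := H359.CT.McL.iso_K0
  obtain ⟨T, hm, hr, hT, -⟩ := McL.tabK
  have := Finite.of_equiv _ (e.trans f.symm).toEquiv
  refine Cov.of_equiv (e.trans f.symm) fun X _ _ σ M Γ b D H hc hd => ?_
  have h := rt H (BZ.C3.reg_of_rat hm hr hT (d := 4) (by decide +kernel)) hd (by decide)
  exact (fin H (mem0 H h ((cv H hc).dz hm hT 9 6 5103 (by decide +kernel)) (by decide))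
    (mem0 H h ((cv H hc).dz hm hT 16 6 8019 (by decide +kernel)) (by decide)) hm.1 hc 7 1 (by norm_num)
    (by decide +kernel)).elim

theorem mcl_3_5 : ∀ (S : Type) [Group S] [Finite S], Spor.IsoMcL S → Cov 3 5 S := by
  have := Fact.mk Nat.prime_five
  have := Fact.mk Nat.prime_three
  rintro S _ _ ⟨e⟩
  obtain ⟨f⟩ := H359.CT.McL.iso_K0
  obtain ⟨T, hm, -, hT, -⟩ := McL.tabK
  have := Finite.of_equiv _ (e.trans f.symm).toEquiv
  refine Cov.of_equiv (e.trans f.symm) fun X _ _ σ M Γ b D H hc hd => ?_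
  have h := rt H (BZ.C2.reg_of_tab hm hT (d := 2) (by decide +kernel)) hd (by decide)
  exact (fin H (mem0 H h ((cv H hc).dz hm hT 9 6 5103 (by decide +kernel)) (by decide))
    (mem0 H h ((cv H hc).dz hm hT 16 6 8019 (by decide +kernel)) (by decide)) hm.1 hc 7 1 (by norm_num)
    (by decide +kernel)).elim

theorem on_3_2 : ∀ (S : Type) [Group S] [Finite S], Spor.IsoON S → Cov 3 2 S := by
  have := Fact.mk Nat.prime_two
  have := Fact.mk Nat.prime_three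
  rintro S _ _ ⟨e⟩
  obtain ⟨T, hm, -, -, hT⟩ := ON.exists_tab
  have : Finite Spor.ON := Nat.finite_of_card_ne_zero (by rw [hm.1]; decide)
  refine Cov.of_equiv e fun X _ _ σ M Γ b D H hc hd => ?_
  have hR := BZ.C2.reg_of_tab (p := 2) hm hT (d := 3) (by decide +kernel)
  have h := rt H hR hd (by decide)
  exact (fin H (mem H h ((cv H hc).dz hm hT 20 4 169290 (by decide +kernel)) hR 1 (by decide) (by rw [hm.1]; decide))
    (mem H h ((cv H hc).dz hm hT 24 4 175770 (by decide +kernel)) hR 1 (by decide) (by rw [hm.1]; decide)) hm.1 hc 11 1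
    (by norm_num) (by decide +kernel)).elim

theorem on_3_7 : ∀ (S : Type) [Group S] [Finite S], Spor.IsoON S → Cov 3 7 S := by
  have : Fact (Nat.Prime 7) := ⟨by norm_num⟩
  have := Fact.mk Nat.prime_three
  rintro S _ _ ⟨e⟩
  obtain ⟨T, hm, -, -, hT⟩ := ON.exists_tab
  have : Finite Spor.ON := Nat.finite_of_card_ne_zero (by rw [hm.1]; decide)
  refine Cov.of_equiv e fun X _ _ σ M Γ b D H hc hd => ?_
  have h := rt H (BZ.C2.reg_of_tab (p := 7) hm hT (d := 1) (by decide +kernel)) hd (by decide)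
  exact (fin H (mem0 H h ((cv H hc).dz hm hT 20 4 169290 (by decide +kernel)) (by decide))
    (mem0 H h ((cv H hc).dz hm hT 25 4 207360 (by decide +kernel)) (by decide)) hm.1 hc 11 1 (by norm_num)
    (by decide +kernel)).elim

section hs

open Cfsg.Agent.BZ.C5 Cfsg.Agent.BZ.C5.HS Cfsg.Agent.TAB.HS

/-- the first form -/
def qa : List (List ℤ × List ℤ) := [([0, 0, 0, 0, 0, 0, 0, 1], [82, 82, 82, 82, 82, 0, 82, -82]),
  ([0, 0, 0, 0, 0, 0, 1, 0], [82, 82, 82, 0, -82, -82, 0, 0]), ([0, 0, 0, 0, 0, 1, 0, 0], [82, -164, 82, -146, 82, 82, 0, 0]),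
  ([0, 0, 0, 0, 1, 0, 0, 0], [0, -24, -82, -272, -140, 0, 0, 0]), ([0, 0, 0, 1, 0, 0, 0, 0], [82, 255, -17, 0, 0, 0, 0, 0]),
  ([0, 0, 1, 0, 0, 0, 0, 0], [-82, 82, 82, 0, 0, 0, 0, 0]), ([0, 1, 0, 0, 0, 0, 0, 0], [-1, 82, 0, 0, 0, 0, 0, 0]),
  ([1, 0, 0, 0, 0, 0, 0, 0], [35, 0, 0, 0, 0, 0, 0, 0])]

/-- the second form -/
def qb : List (List ℤ × List ℤ) := [([0, 0, 0, 0, 0, 0, 0, 1], [3, 3, 3, 3, 0, -3, 3, 3]),
  ([0, 0, 0, 0, 0, 0, 1, 0], [2, 0, 3, 1, -2, 0, 0, 0]), ([0, 0, 0, 0, 0, 1, 0, 0], [0, 0, 3, 3, -7, 0, 0, 0]),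
  ([0, 0, 0, 0, 1, 0, 0, 0], [-1, -3, -3, 3, 3, 0, 0, 0]), ([0, 0, 0, 1, 0, 0, 0, 0], [1, 1, -1, -2, 0, 0, 0, 0]),
  ([0, 0, 1, 0, 0, 0, 0, 0], [-3, -1, -1, 0, 0, 0, 0, 0]), ([0, 1, 0, 0, 0, 0, 0, 0], [-2, 0, 0, 0, 0, 0, 0, 0]),
  ([1, 0, 0, 0, 0, 0, 0, 0], [-2, 0, 0, 0, 0, 0, 0, 0])]

theorem ok_a : okQ G 191340032 lv qa
    (fun xs => !(pd ed 1 (D.N * 2) 2 (fun d => decide (d % 7 = 0 ∧ d % 25 ≠ 0)) xs)) = true := by decide +kernel

theorem ok_b : okQ G 191340032 lv qb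
    (fun xs => !(pd ed 1 (D.N * 2) 2 (fun d => decide (d % 7 ≠ 0 ∧ d % 25 ≠ 0)) xs)) = true := by decide +kernel

theorem hs_2_5 : ∀ (S : Type) [Group S] [Finite S], Spor.IsoHS S → Cov 2 5 S := by
  have := finite
  have := Fact.mk Nat.prime_five
  rintro S _ _ ⟨e⟩
  obtain ⟨T, hm, hs⟩ := seeded
  have hV : ∀ v ∈ V, Virt T (nth v) := fun v hv => by
    obtain ⟨c, -, rfl⟩ := List.mem_map.1 hv
    exact Virt.comb (Sm1.virt_okC hm.1 hs ok_A) c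
  have hR : Reg 5 2 Spor.HS := BZ.C2.reg_of_tab hm (tab hm hs).2 (d := 1) (by decide +kernel)
  refine Cov.of_equiv e fun X _ _ σ M Γ b E H hc hd => ?_
  have h := rt H hR hd (by decide)
  obtain ⟨n, h1, h2⟩ := (cv H hc).fd hm hV ok_V ok_L ok_D one_pos ok_a
  obtain ⟨m, h3, h4⟩ := (cv H hc).fd hm hV ok_V ok_L ok_D one_pos ok_b
  rw [decide_eq_true_eq] at h2 h4
  have h5 : 5 ^ (1 + 2) ∣ Nat.card Spor.HS := by rw [hm.1]; decide
  exact (fin H (mem H h h1 hR 1 (by omega) h5) (mem H h h3 hR 1 (by omega) h5) hm.1 hc 7 1 (by norm_num)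
    ⟨by decide, by decide, by omega, by decide, by omega⟩).elim

end hs

end Cfsg.Agent.OM.C2
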